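import Groth.Agent.RegBlowLib.Chart
import Mathlib.RingTheory.IsTensorProduct

/-!
# Base change of the chart of a blow-up in a Koszul-regular sequence
-/

set_option autoImplicit false
set_option linter.style.haveILetI false
set_option backward.isDefEq.respectTransparency false

universe u

open MvPolynomial

noncomputable section

namespace Groth.Agent.BlowBCLib

open Groth.Agent.CILib Groth.Agent.BlowChartLib Groth.Agent.RegBlowLib

variable {A : Type u} [CommRing A] {m : ℕ} (f : Fin (m + 1) → A) (j : Fin (m + 1))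

/-- The equations present the chart. -/
theorem exists_chart_pres (hf : LCI.IsKoszulRegularSeq A (List.ofFn f)) {I : Ideal A}
    (hI : I = Ideal.span (Set.range f)) :
    ∃ Ψ : MvPolynomial (Fin m) A →+* BlowUp.affineAlgebra A I (f j), Function.Surjective Ψ ∧
      (∀ r, Ψ (C r) = algebraMap A _ r) ∧ RingHom.ker Ψ = Ideal.ofList (List.ofFn (eqn f j)) := by
  classical
  have hmem : ∀ i, f i ∈ I := fun i => hI ▸ Ideal.subset_span ⟨i, rfl⟩
  let Ψ : MvPolynomial (Fin m) A →+* BlowUp.affineAlgebra A I (f j) :=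
    eval₂Hom (algebraMap A _) fun i => frac (f (j.succAbove i)) (hmem _)
  have hC : ∀ r, Ψ (C r) = algebraMap A _ r := fun r => eval₂Hom_C _ _ _
  have hX : ∀ i, Ψ (X i) = frac (a := f j) (f (j.succAbove i)) (hmem _) := fun i => eval₂Hom_X' _ _ i
  have hfr : ∀ i, frac (a := f j) (f i) (hmem i) ∈ Ψ.range := fun i => by
    rcases eq_or_ne i j with rfl | hij
    · exact ⟨1, (Ψ.map_one).trans (frac_self (hmem i)).symm⟩
    · obtain ⟨i', rfl⟩ := Fin.exists_succAbove_eq hij
      exact ⟨X i', hX i'⟩
  have halg : ∀ r, algebraMap A (BlowUp.affineAlgebra A I (f j)) r ∈ Ψ.range := fun r => ⟨C r, hC r⟩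
  have hsurj : Function.Surjective Ψ := fun z =>
    induction_frac (P := fun z => z ∈ Ψ.range) halg
      (fun x hx => by
        obtain ⟨c, hc⟩ := Ideal.mem_span_range_iff_exists_fun.1 (hI.le hx)
        have h1 := frac_linear (a := f j) c f hmem x hx hc
        exact h1 ▸ sum_mem fun i _ => mul_mem (halg (c i)) (hfr i))
      (fun x y => Subring.add_mem _) (fun x y => Subring.mul_mem _) z
  have hg : ∀ i, Ψ (eqn f j i) = 0 := fun i => by
    rw [eqn, map_sub, map_mul, hC, hX, hC, mul_comm, frac_mul, sub_self]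
  let J := Ideal.ofList (List.ofFn (eqn f j))
  have hgJ : ∀ i, eqn f j i ∈ J := fun i => Ideal.subset_span (List.mem_ofFn.2 ⟨i, rfl⟩)
  have hred : ∀ x : MvPolynomial (Fin m) A, ∃ (N : ℕ) (c : A), C (f j) ^ N * x - C c ∈ J := by
    intro x
    induction x using MvPolynomial.induction_on with
    | C a => exact ⟨0, a, by simp⟩
    | add p q hp hq =>
      obtain ⟨N, c, hc⟩ := hp
      obtain ⟨N', c', hc'⟩ := hq
      refine ⟨N + N', f j ^ N' * c + f j ^ N * c', ?_⟩
      have := add_mem (Ideal.mul_mem_left J (C (f j) ^ N') hc) (Ideal.mul_mem_left J (C (f j) ^ N) hc')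
      convert this using 1
      rw [map_add, map_mul, map_mul, map_pow, map_pow]; ring
    | mul_X p i hp =>
      obtain ⟨N, c, hc⟩ := hp
      refine ⟨N + 1, c * f (j.succAbove i), ?_⟩
      have := add_mem (Ideal.mul_mem_left J (C (f j) * X i) hc) (Ideal.mul_mem_left J (C c) (hgJ i))
      convert this using 1
      rw [eqn, map_mul]; ring
  have hcons := isKoszulRegularSeq_cons f j hf
  have hker : RingHom.ker Ψ = J := by
    apply le_antisymm
    · intro x hx
      obtain ⟨N, c, hc⟩ := hred x
      have hJ : Ψ (C (f j) ^ N * x - C c) = 0 := by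
        have : J ≤ RingHom.ker Ψ := by
          rw [Ideal.span_le]
          intro y hy
          obtain ⟨i, rfl⟩ := List.mem_ofFn.1 hy
          exact hg i
        exact this hc
      rw [map_sub, map_mul, RingHom.mem_ker.1 hx, mul_zero, zero_sub, neg_eq_zero, hC] at hJ
      obtain ⟨⟨_, M, rfl⟩, hM⟩ := (IsLocalization.map_eq_zero_iff (Submonoid.powers (f j))
        (Localization.Away (f j)) c).1 (congrArg Subtype.val hJ)
      have hx2 : C (f j) ^ (M + N) * x ∈ J := by
        have h := Ideal.mul_mem_left J (C (f j) ^ M) hc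
        rw [mul_sub, ← map_pow, ← map_mul] at h
        simp only [] at hM
        rw [hM, map_zero, sub_zero, map_pow, ← mul_assoc, ← pow_add] at h
        exact h
      generalize M + N = K at hx2
      induction K with
      | zero => simpa using hx2
      | succ K ih => exact ih (mem_of_mul_mem _ _ hcons _ (by rwa [← mul_assoc, ← pow_succ']))
    · rw [Ideal.span_le]
      intro y hy
      obtain ⟨i, rfl⟩ := List.mem_ofFn.1 hy
      exact hg i
  exact ⟨Ψ, hsurj, hC, hker⟩

/-- The element generating the ideal on a chart stays a non-zero-divisor after a Tor-independent base change. -/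
theorem smul_regular_pushout (hf : LCI.IsKoszulRegularSeq A (List.ofFn f)) {I : Ideal A}
    (hI : I = Ideal.span (Set.range f)) {A' B C' : Type u} [CommRing A'] [CommRing B] [CommRing C'] [Algebra A A']
    [Algebra A B] [Algebra A' C'] [Algebra B C'] [Algebra A C'] [IsScalarTower A A' C'] [IsScalarTower A B C']
    [Algebra.IsPushout A A' B C'] (φ : BlowUp.affineAlgebra A I (f j) →+* B) (hφ : Function.Bijective φ)
    (hφA : φ.comp (algebraMap A _) = algebraMap A B)
    (hf' : LCI.IsKoszulRegularSeq A' (List.ofFn fun i => algebraMap A A' (f i))) :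
    algebraMap A C' (f j) ∈ nonZeroDivisors C' := by
  obtain ⟨Ψ, hΨ, hC, hk⟩ := exists_chart_pres f j hf hI
  let f' : Fin (m + 1) → A' := fun i => algebraMap A A' (f i)
  let J := Ideal.ofList (List.ofFn (eqn f j))
  let J' := Ideal.ofList (List.ofFn (eqn f' j))
  let Ψb : MvPolynomial (Fin m) A →+* B := φ.comp Ψ
  have hΨb : Function.Surjective Ψb := hφ.2.comp hΨ
  have hCb : ∀ r, Ψb (C r) = algebraMap A B r := fun r => by
    show φ (Ψ (C r)) = _
    rw [hC]; exact RingHom.congr_fun hφA r
  have hkb : RingHom.ker Ψb = J := by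
    rw [RingHom.ker_comp_of_injective _ hφ.1, hk]
  let Ψ' : MvPolynomial (Fin m) A' →+* C' := eval₂Hom (algebraMap A' C') fun i => algebraMap B C' (Ψb (X i))
  have hnat : ∀ P, Ψ' (MvPolynomial.map (algebraMap A A') P) = algebraMap B C' (Ψb P) := by
    intro P
    refine RingHom.congr_fun (?_ : Ψ'.comp (MvPolynomial.map (algebraMap A A')) = (algebraMap B C').comp Ψb) P
    refine MvPolynomial.ringHom_ext (fun r => ?_) (fun i => ?_)
    · show Ψ' (MvPolynomial.map _ (C r)) = algebraMap B C' (Ψb (C r))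
      rw [map_C, hCb]
      refine (eval₂Hom_C _ _ _).trans ?_
      rw [← IsScalarTower.algebraMap_apply, ← IsScalarTower.algebraMap_apply]
    · show Ψ' (MvPolynomial.map _ (X i)) = algebraMap B C' (Ψb (X i))
      rw [map_X]
      exact eval₂Hom_X' _ _ _
  have heqn : ∀ i, MvPolynomial.map (algebraMap A A') (eqn f j i) = eqn f' j i := fun i => by
    simp only [eqn, map_sub, map_mul, map_C, map_X]
    rfl
  have hJ' : J ≤ J'.comap (MvPolynomial.map (algebraMap A A')) := by
    rw [Ideal.span_le]
    intro y hy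
    obtain ⟨i, rfl⟩ := List.mem_ofFn.1 hy
    show MvPolynomial.map _ (eqn f j i) ∈ J'
    rw [heqn]
    exact Ideal.subset_span (List.mem_ofFn.2 ⟨i, rfl⟩)
  let Q := MvPolynomial (Fin m) A' ⧸ J'
  let π : MvPolynomial (Fin m) A' →+* Q := Ideal.Quotient.mk J'
  letI : Algebra A Q := ((π.comp (C : A' →+* MvPolynomial (Fin m) A')).comp (algebraMap A A')).toAlgebra
  let ω : B →+* Q := RingHom.liftOfSurjective Ψb hΨb ⟨π.comp (MvPolynomial.map (algebraMap A A')), fun x hx => by
    rw [hkb] at hx
    exact Ideal.Quotient.eq_zero_iff_mem.2 (hJ' hx)⟩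
  have hω : ∀ P, ω (Ψb P) = π (MvPolynomial.map (algebraMap A A') P) :=
    fun P => RingHom.liftOfRightInverse_comp_apply _ _ _ _ P
  let l : A' →ₐ[A] Q := { π.comp (C : A' →+* MvPolynomial (Fin m) A') with commutes' := fun r => rfl }
  have hωA : ∀ a, ω (algebraMap A B a) = π (C (algebraMap A A' a)) := fun a => by
    rw [← hCb, hω, map_C]
  let r : B →ₐ[A] Q := { ω with commutes' := hωA }
  let E : C' →ₐ[A] Q := Algebra.pushoutDesc C' l r fun _ _ => Commute.all _ _
  have hE : E.toRingHom.comp Ψ' = π := by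
    refine MvPolynomial.ringHom_ext (fun a => ?_) (fun i => ?_)
    · show E (Ψ' (C a)) = π (C a)
      rw [show Ψ' (C a) = algebraMap A' C' a from eval₂Hom_C _ _ _]
      exact Algebra.pushoutDesc_left C' l r _ a
    · show E (Ψ' (X i)) = π (X i)
      rw [show Ψ' (X i) = algebraMap B C' (Ψb (X i)) from eval₂Hom_X' _ _ _]
      refine (Algebra.pushoutDesc_right C' l r _ _).trans ((hω _).trans ?_)
      rw [map_X]
  have hsurj : Function.Surjective Ψ' := fun z => by
    obtain ⟨t, rfl⟩ := (Algebra.IsPushout.equiv A A' B C').surjective z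
    induction t using TensorProduct.induction_on with
    | zero => exact ⟨0, by rw [map_zero, map_zero]⟩
    | add p q hp hq =>
      obtain ⟨P, hP⟩ := hp
      obtain ⟨P', hP'⟩ := hq
      exact ⟨P + P', by rw [map_add, map_add, hP, hP']⟩
    | tmul a b =>
      obtain ⟨P, rfl⟩ := hΨb b
      refine ⟨C a * MvPolynomial.map (algebraMap A A') P, ?_⟩
      rw [Algebra.IsPushout.equiv_tmul, map_mul, hnat]
      exact congrArg (· * _) (eval₂Hom_C _ _ _)
  refine mem_nonZeroDivisors_iff_right.2 fun z hz => ?_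
  obtain ⟨P, rfl⟩ := hsurj z
  have h0 : π (P * C (f' j)) = 0 := by
    rw [← RingHom.congr_fun hE]
    show E (Ψ' (P * C (f' j))) = 0
    rw [map_mul, show Ψ' (C (f' j)) = algebraMap A' C' (f' j) from eval₂Hom_C _ _ _,
      ← IsScalarTower.algebraMap_apply A A' C', hz, map_zero]
  have h1 : P ∈ J' := mem_of_mul_mem _ _ (isKoszulRegularSeq_cons f' j hf') _
    (by rw [mul_comm]; exact Ideal.Quotient.eq_zero_iff_mem.1 h0)
  have h2 : J' ≤ RingHom.ker Ψ' := by
    rw [Ideal.span_le]
    intro y hy
    obtain ⟨i, rfl⟩ := List.mem_ofFn.1 hy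
    show Ψ' (eqn f' j i) = 0
    rw [← heqn, hnat, show Ψb (eqn f j i) = 0 from hkb.ge (Ideal.subset_span (List.mem_ofFn.2 ⟨i, rfl⟩)), map_zero]
  exact h2 h1

end Groth.Agent.BlowBCLib
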